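import Mathlib
import Groth.Prelude.Def_AssocGrMod
import Groth.Prelude.Def_GrMap

/-!
Successive approximation for filtered modules over adically precomplete rings, and the passage between
generation of the associated graded module and stepwise approximation.
-/

set_option autoImplicit false

universe u v

open AssocGr

namespace Groth.Agent.AdicGrLib

section Core

variable {A : Type u} [CommRing A] {I : Ideal A} [IsPrecomplete I A] {M : Type v} [AddCommGroup M] [Module A M]
  {ι : Type*} [Fintype ι]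

theorem approx (N : ℕ → Submodule A M) (hN : Antitone N) (hsmul : ∀ i j, I ^ i • N j ≤ N (i + j))
    (hsep : ⨅ n, N n = ⊥) (d : ι → ℕ) (x : ι → M) (hx : ∀ i, x i ∈ N (d i)) (P : M → Prop)
    (n₀ : ℕ) (y : M) (hy : y ∈ N n₀) (hPy : P y)
    (step : ∀ n, ∀ r ∈ N n, P r → ∃ a : ι → A, (∀ i, a i ∈ I ^ (n - d i)) ∧
      r - ∑ i, a i • x i ∈ N (n + 1) ∧ P (r - ∑ i, a i • x i)) :
    ∃ L : ι → A, (∀ i, L i ∈ I ^ (n₀ - d i)) ∧ y = ∑ i, L i • x i := by
  classical
  let St : ℕ → Type v := fun j => {r : M // r ∈ N (n₀ + j) ∧ P r}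
  have step' : ∀ (j : ℕ) (r : St j), ∃ p : (ι → A) × St (j + 1),
      (∀ i, p.1 i ∈ I ^ (n₀ + j - d i)) ∧ p.2.1 = r.1 - ∑ i, p.1 i • x i := fun j r => by
    obtain ⟨a, ha, h1, h2⟩ := step (n₀ + j) r.1 r.2.1 r.2.2
    exact ⟨⟨a, ⟨_, h1, h2⟩⟩, ha, rfl⟩
  choose g hg1 hg2 using step'
  let R : ∀ j, St j := fun j => Nat.rec (motive := St) ⟨y, hy, hPy⟩ (fun j r => (g j r).2) j
  let inc : ι → ℕ → A := fun i j => (g j (R j)).1 i
  let c : ι → ℕ → A := fun i m => ∑ j ∈ Finset.range m, inc i j
  have hR : ∀ m, (R m).1 = y - ∑ i, c i m • x i := fun m => by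
    induction m with
    | zero => simp [R, c]
    | succ m ih =>
      change (g m (R m)).2.1 = _
      rw [hg2, ih]
      simp only [c, inc, Finset.sum_range_succ, add_smul, Finset.sum_add_distrib]
      abel
  have hc : ∀ i, ∀ m m', m ≤ m' → c i m' - c i m ∈ I ^ (n₀ + m - d i) := fun i m m' h => by
    rw [show c i m' - c i m = ∑ j ∈ Finset.Ico m m', inc i j from (Finset.sum_Ico_eq_sub _ h).symm]
    refine Ideal.sum_mem _ fun j hj => Ideal.pow_le_pow_right ?_ (hg1 j (R j) i)
    have := (Finset.mem_Ico.1 hj).1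
    omega
  have hL : ∀ i, ∃ L : A, ∀ m, c i (m + d i) - L ∈ I ^ m := fun i => by
    obtain ⟨L, hL⟩ := IsPrecomplete.prec (I := I) (M := A) inferInstance (f := fun m => c i (m + d i)) (fun {m m'} h => by
      rw [SModEq.sub_mem, smul_eq_mul, Ideal.mul_top]
      rw [← neg_mem_iff, neg_sub]
      exact Ideal.pow_le_pow_right (by omega) (hc i _ _ (by omega : m + d i ≤ m' + d i)))
    exact ⟨L, fun m => by simpa [SModEq.sub_mem, smul_eq_mul, Ideal.mul_top] using hL m⟩
  choose L hL using hL
  have hLc : ∀ i m, L i - c i m ∈ I ^ (n₀ + m - d i) := fun i m => by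
    have h1 := hc i m (n₀ + m + d i) (by omega)
    have h2 := Ideal.pow_le_pow_right (show n₀ + m - d i ≤ n₀ + m by omega) (hL i (n₀ + m))
    have := Ideal.sub_mem _ h1 h2
    simpa using this
  refine ⟨L, fun i => ?_, ?_⟩
  · simpa [c] using hLc i 0
  · rw [← sub_eq_zero, ← Submodule.mem_bot A, ← hsep, Submodule.mem_iInf]
    intro m
    refine hN (show m ≤ n₀ + m by omega) ?_
    have h1 : y - ∑ i, L i • x i = (R m).1 - ∑ i, (L i - c i m) • x i := by
      rw [hR]
      simp only [sub_smul, Finset.sum_sub_distrib]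
      abel
    rw [h1]
    refine Submodule.sub_mem _ (R m).2.1 (Submodule.sum_mem _ fun i _ => ?_)
    exact hN (show n₀ + m ≤ (n₀ + m - d i) + d i by omega)
      (hsmul _ _ (Submodule.smul_mem_smul (hLc i m) (hx i)))

end Core

section Gr

variable {A : Type u} [CommRing A] {I : Ideal A} {M : Type u} [AddCommGroup M] [Module A M] {F : I.Filtration M}
  {ι : Type*} [Fintype ι]

/-- A homogeneous element in the span of homogeneous classes is approximated one step further. -/
theorem exists_step (d : ι → ℕ) (x : (i : ι) → ↥(F.N (d i))) (n : ℕ) (r : F.N n)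
    (h : (inDegM F n r : GrMod F) ∈ Submodule.span (GrRing (FiltBl.IdealFiltration.adic I))
      (Set.range fun i => (inDegM F (d i) (x i) : GrMod F))) :
    ∃ a : ι → A, (∀ i, a i ∈ I ^ (n - d i)) ∧ (r : M) - ∑ i, a i • (x i : M) ∈ F.N (n + 1) := by
  classical
  obtain ⟨g, hg⟩ := (Submodule.mem_span_range_iff_exists_fun _).1 h
  choose f hf using fun i => mkG_surjective (FiltBl.IdealFiltration.adic I) (g i)
  simp only [← hf, coe_inDegM, mkG_smul_mkGM, ← map_sum] at hg
  rw [eq_comm, ← sub_eq_zero, ← map_sub, mkGM_eq_zero_iff, mem_succMod_iff] at hg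
  refine ⟨fun i => if d i ≤ n then (f i : Polynomial A).coeff (n - d i) else 0, fun i => ?_, ?_⟩
  · dsimp only
    split_ifs with hd
    · exact (f i).2 (n - d i)
    · exact zero_mem _
  · have h1 := hg n
    rw [← ReesM.coeffHom_apply, map_sub, map_sum] at h1
    simp only [ReesM.coeffHom_apply, ReesM.coeff_smul, ReesM.coeff_monomM, if_true] at h1
    convert! h1 using 3
    rename_i i _
    dsimp only
    split_ifs with hd
    · rw [Finset.sum_eq_single (n - d i, d i)]
      · simp
      · rintro ⟨p, q⟩ hpq hne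
        rw [Finset.HasAntidiagonal.mem_antidiagonal] at hpq
        rw [if_neg, smul_zero]
        rintro rfl
        exact hne (by simp [show p = n - d i by omega])
      · intro h2
        exact absurd (Finset.HasAntidiagonal.mem_antidiagonal.2 (by omega)) h2
    · rw [zero_smul, Finset.sum_eq_zero]
      rintro ⟨p, q⟩ hpq
      rw [Finset.HasAntidiagonal.mem_antidiagonal] at hpq
      rw [if_neg (by omega), smul_zero]

theorem pow_smul_le' (i j : ℕ) : I ^ i • F.N j ≤ F.N (i + j) := F.pow_smul_le i j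

theorem antitone_N : Antitone F.N := antitone_nat_of_succ_le F.mono

end Gr

end Groth.Agent.AdicGrLib
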